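/-
Invariant `p'`-subgroups in `p`-constrained groups and the transitivity theorem
(namespace `Cfsg.Agent.ConstrainedTrans`).

* `eq_bot_of_isCharP`, `le_pPrimeCore_of_invariant`: `E` abelian, containing every `p`-element of its
  centraliser, (`p` odd or Sylow of class two): `E`-invariant `p'`-subgroups lie in `O_{p'}`
-/
import Cfsg.Agent.Lib.Baer.Basic
import Cfsg.Agent.Lib.Constrained.Basic
import Cfsg.Agent.Lib.PGroup.Critical
import Cfsg.Agent.Lib.Coprime.PQ
import Cfsg.Agent.Lib.Solvable.Basic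

set_option autoImplicit false

namespace Cfsg.Agent.ConstrainedTrans

open scoped commutatorElement

variable {G : Type*} [Group G] [Finite G] {p : ℕ} [Fact p.Prime]

/-- `⁅⁅a, b⁆, c⁆ = 1` inside every `p`-subgroup. -/
abbrev ClassTwo (p : ℕ) (G : Type*) [Group G] : Prop :=
  ∀ T : Subgroup G, IsPGroup p T → ∀ a ∈ T, ∀ b ∈ T, ∀ c ∈ T, ⁅⁅a, b⁆, c⁆ = 1

theorem eq_bot_of_isCharP (hX : Constrained.IsCharP p G) (h2 : p = 2 → ClassTwo p G)
    {E : Subgroup G} (hEp : IsPGroup p E) (hEc : IsMulCommutative E)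
    (hfull : ∀ x ∈ Subgroup.centralizer (E : Set G), IsPGroup p (Subgroup.zpowers x) → x ∈ E)
    {Y : Subgroup G} (hY : (Nat.card Y).Coprime p) (hEY : E ≤ Subgroup.normalizer (Y : Set G)) :
    Y = ⊥ := by
  set R := Cfsg.pCore p G with hR
  have hRp : IsPGroup p R := Cores.isPGroup_pCore p G
  have hRn : R.Normal := Cores.pCore_normal p G
  have hnorm : ∀ A : Subgroup G, A ≤ Subgroup.normalizer (R : Set G) := fun A => by
    rw [Subgroup.normalizer_eq_top]; exact le_top
  have hcop : (Nat.card Y).Coprime (Nat.card R) := Coprime.coprime_of_isPGroup hY hRp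
  have hcR : R ⊓ Subgroup.centralizer (E : Set G) ≤ E := fun r hr =>
    hfull r hr.2 (hRp.to_le (Subgroup.zpowers_le.2 hr.1))
  have hRY : R ⊓ Subgroup.centralizer (E : Set G) ≤ Subgroup.centralizer (Y : Set G) := by
    intro r hr
    rw [Subgroup.mem_centralizer_iff]
    intro y hy
    have h1 : r * y * r⁻¹ * y⁻¹ ∈ Y :=
      Y.mul_mem ((Subgroup.mem_normalizer_iff.1 (hEY (hcR hr)) y).1 hy) (Y.inv_mem hy)
    have h3 : r * y * r⁻¹ * y⁻¹ ∈ R := by
      have := R.mul_mem hr.1 (hRn.conj_mem _ (R.inv_mem hr.1) y)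
      simpa [mul_assoc] using this
    have h4 := Coprime.eq_one_of_mem_of_mem hcop h1 h3
    calc y * r = (r * y * r⁻¹ * y⁻¹)⁻¹ * (r * y) := by group
      _ = r * y := by rw [h4, inv_one, one_mul]
  suffices hYR : Y ≤ Subgroup.centralizer (R : Set G) by
    rw [eq_bot_iff]
    intro y hy
    exact Subgroup.mem_bot.2 (Coprime.eq_one_of_mem_of_mem hcop hy (hX (hYR hy)))
  by_cases hp : p = 2
  · have hsup : IsPGroup p ↥(E ⊔ R) := hEp.to_sup_of_normal_right hRp
    have hd : ∀ r ∈ R, ∀ e ∈ E, ⁅r, e⁆ ∈ R ⊓ Subgroup.centralizer (E : Set G) := by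
      intro r hr e he
      refine ⟨?_, ?_⟩
      · have := R.mul_mem hr (hRn.conj_mem _ (R.inv_mem hr) e)
        rw [commutatorElement_def]
        simpa [mul_assoc] using this
      · refine Subgroup.mem_centralizer_iff.2 fun c hc => ?_
        exact (commutatorElement_eq_one_iff_mul_comm.1 (h2 hp _ hsup r
          (Subgroup.mem_sup_right hr) e (Subgroup.mem_sup_left he) c
          (Subgroup.mem_sup_left hc))).symm
    -- `E` centralises `Y`
    have hEYc : E ≤ Subgroup.centralizer (Y : Set G) := by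
      intro e he
      refine Subgroup.mem_centralizer_iff.2 fun y hy => ?_
      set w := e * y * e⁻¹ * y⁻¹ with hw
      have hwY : w ∈ Y := Y.mul_mem ((Subgroup.mem_normalizer_iff.1 (hEY he) y).1 hy) (Y.inv_mem hy)
      have hwR : w ∈ Subgroup.centralizer (R : Set G) := by
        refine Subgroup.mem_centralizer_iff.2 fun r hr => ?_
        set R₀ := R ⊓ Subgroup.centralizer (E : Set G)
        have hfix : ∀ z ∈ R₀, Commute w z := fun z hz =>
          Subgroup.mem_centralizer_iff.1 (hRY hz) w hwY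
        -- `w r w⁻¹ = r z` with `z ∈ R₀`
        have hz : ∃ z ∈ R₀, w * r * w⁻¹ = r * z := by
          have hs : y⁻¹ * r * y ∈ R := by simpa using hRn.conj_mem _ hr y⁻¹
          obtain ⟨z', hz', hz'e⟩ : ∃ z' ∈ R₀, e⁻¹ * (y⁻¹ * r * y) * e = (y⁻¹ * r * y) * z' :=
            ⟨⁅(y⁻¹ * r * y)⁻¹, e⁻¹⁆, hd _ (R.inv_mem hs) _ (E.inv_mem he),
              by rw [commutatorElement_def]; group⟩
          obtain ⟨z, hz, hze⟩ : ∃ z ∈ R₀, e * r * e⁻¹ = r * z :=
            ⟨⁅r⁻¹, e⁆, hd _ (R.inv_mem hr) _ he, by rw [commutatorElement_def]; group⟩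
          refine ⟨z * z', R₀.mul_mem hz hz', ?_⟩
          have hyz : y * z' * y⁻¹ = z' := by
            rw [mul_inv_eq_iff_eq_mul]
            exact Subgroup.mem_centralizer_iff.1 (hRY hz') y hy
          have hez : e * z' * e⁻¹ = z' := by
            rw [mul_inv_eq_iff_eq_mul]
            exact Subgroup.mem_centralizer_iff.1 hz'.2 e he
          calc w * r * w⁻¹ = e * (y * (e⁻¹ * (y⁻¹ * r * y) * e) * y⁻¹) * e⁻¹ := by rw [hw]; group
            _ = e * (r * (y * z' * y⁻¹)) * e⁻¹ := by rw [hz'e]; group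
            _ = (e * r * e⁻¹) * (e * z' * e⁻¹) := by rw [hyz]; group
            _ = r * (z * z') := by rw [hze, hez, mul_assoc]
        obtain ⟨z, hz0, hz⟩ := hz
        have hpow : ∀ k : ℕ, w ^ k * r * (w ^ k)⁻¹ = r * z ^ k := by
          intro k
          induction k with
          | zero => simp
          | succ k ih =>
            calc w ^ (k + 1) * r * (w ^ (k + 1))⁻¹ = w * (w ^ k * r * (w ^ k)⁻¹) * w⁻¹ := by
                  rw [pow_succ']; group
              _ = w * r * w⁻¹ * (w * z ^ k * w⁻¹) := by rw [ih]; group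
              _ = r * z ^ (k + 1) := by
                  rw [hz, ((hfix z hz0).pow_right k).eq, mul_inv_cancel_right, mul_assoc, ← pow_succ']
        have hzn : z ^ Nat.card Y = 1 := by
          have h1 := hpow (Nat.card Y)
          have h2 : w ^ Nat.card Y = 1 := by
            rw [← Subgroup.coe_mk Y w hwY, ← SubgroupClass.coe_pow, pow_card_eq_one']
            rfl
          simpa [h2] using h1.symm
        have hz1 : z = 1 := by
          refine orderOf_eq_one_iff.1 (Nat.eq_one_of_dvd_coprimes hcop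
            (orderOf_dvd_of_pow_eq_one hzn) ?_)
          rw [← Subgroup.orderOf_mk z hz0.1]
          exact orderOf_dvd_natCard _
        rw [hz1, mul_one, mul_inv_eq_iff_eq_mul] at hz
        exact hz.symm
      have h1 : e * y * e⁻¹ * y⁻¹ = 1 := Coprime.eq_one_of_mem_of_mem hcop hwY (hX hwR)
      calc y * e = (e * y * e⁻¹ * y⁻¹)⁻¹ * (e * y) := by group
        _ = e * y := by rw [h1, inv_one, one_mul]
    exact Coprime.thompson_pq p hEp hY hRp hEYc (hnorm E) (hnorm Y) hRY
  · obtain ⟨H, hH⟩ := PGroup.exists_critical (G := R) hRp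
    haveI := hH.char
    set K := H.map R.subtype with hK
    have hKR : K ≤ R := Subgroup.map_subtype_le H
    haveI hKn : K.Normal := Cores.map_subtype_normal_of_characteristic R H
    have hKn' : ∀ A : Subgroup G, A ≤ Subgroup.normalizer (K : Set G) := fun A => by
      rw [Subgroup.normalizer_eq_top]; exact le_top
    have hcent : ∀ a b : K, ⁅a, b⁆ ∈ Subgroup.center K := by
      rintro ⟨_, a, ha, rfl⟩ ⟨_, b, hb, rfl⟩
      rw [Subgroup.mem_center_iff]
      rintro ⟨_, c, hc, rfl⟩
      have h1 := Subgroup.mem_centralizer_iff.1 (hH.comm_mem a ha b).2 c hc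
      exact Subtype.ext (congrArg (fun z : R => (z : G)) h1)
    have hYK : Y ≤ Subgroup.centralizer (K : Set G) :=
      Baer.le_centralizer_of_fixed hp hEp hY (hRp.to_le hKR) hcent hEY (hKn' E) (hKn' Y)
        (fun x hx => hRY ⟨hKR hx.1, hx.2⟩)
    have hKY : K ≤ Subgroup.centralizer (Y : Set G) := Subgroup.le_centralizer_iff.1 hYK
    refine Coprime.thompson_pq p (hRp.to_le hKR) hY hRp hKY
      (Subgroup.le_normalizer.trans' hKR) (hnorm Y) ?_
    intro x hx
    refine hKY ⟨⟨x, hx.1⟩, hH.self_centralizing ?_, rfl⟩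
    exact Subgroup.mem_centralizer_iff.2 fun k hk => Subtype.ext
      (Subgroup.mem_centralizer_iff.1 hx.2 k ⟨k, hk, rfl⟩)

/-- In a `p`-constrained group the `E`-invariant `p'`-subgroups lie in `O_{p'}`. -/
theorem le_pPrimeCore_of_invariant (hX : Cfsg.IsPConstrained p G) (h2 : p = 2 → ClassTwo p G)
    {E : Subgroup G} (hEp : IsPGroup p E) (hEc : IsMulCommutative E)
    (hfull : ∀ x ∈ Subgroup.centralizer (E : Set G), IsPGroup p (Subgroup.zpowers x) → x ∈ E)
    {Y : Subgroup G} (hY : (Nat.card Y).Coprime p) (hEY : E ≤ Subgroup.normalizer (Y : Set G)) :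
    Y ≤ Cfsg.pPrimeCore p G := by
  set O := Cfsg.pPrimeCore p G with hO
  set π := QuotientGroup.mk' O with hπ
  haveI : O.Normal := Cores.pPrimeCore_normal p G
  have hOp : ¬ p ∣ Nat.card O := Cores.not_dvd_card_pPrimeCore
  suffices h : Y.map π = ⊥ by
    rw [Subgroup.map_eq_bot_iff, hπ, QuotientGroup.ker_mk'] at h
    exact h
  refine eq_bot_of_isCharP (Constrained.isPConstrained_iff.1 hX) ?_ (E := E.map π) (hEp.map π)
    (Subgroup.map_isMulCommutative _ _) ?_ (Nat.Coprime.coprime_dvd_left (Y.card_map_dvd π) hY) ?_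
  · intro hp T hT a ha b hb c hc
    -- a `p`-subgroup of the preimage covering `T`
    set M := T.comap π with hM
    obtain ⟨P⟩ : Nonempty (Sylow p M) := inferInstance
    set S := (P : Subgroup M).map M.subtype with hS
    have hcov : ∀ t ∈ T, ∃ s ∈ S, π s = t := by
      intro t ht
      obtain ⟨g, rfl⟩ := QuotientGroup.mk'_surjective O t
      let ψ : M →* G ⧸ O := π.comp M.subtype
      have hsub : IsPGroup p ψ.range := hT.to_le (by rintro _ ⟨m, rfl⟩; exact m.2)
      have heq : (P : Subgroup M).map ψ = ψ.range := by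
        refine Subgroup.eq_of_le_of_card_ge (Subgroup.map_le_range _ _) ?_
        refine Nat.le_of_dvd Nat.card_pos ?_
        obtain ⟨k, hk⟩ := IsPGroup.iff_card.1 hsub
        have h1 : Nat.card ψ.range ∣ (P : Subgroup M).index * Nat.card ((P : Subgroup M).map ψ) := by
          have h2 := Subgroup.index_map_dvd (f := ψ.rangeRestrict) (H := (P : Subgroup M))
            (MonoidHom.rangeRestrict_surjective ψ)
          have h3 := ((P : Subgroup M).map ψ.rangeRestrict).card_mul_index
          have h4 : Nat.card ((P : Subgroup M).map ψ.rangeRestrict) =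
              Nat.card ((P : Subgroup M).map ψ) := by
            rw [Nat.card_congr (Subgroup.equivMapOfInjective ((P : Subgroup M).map ψ.rangeRestrict)
              ψ.range.subtype ψ.range.subtype_injective).toEquiv, Subgroup.map_map]
            rfl
          rw [← h3, h4, mul_comm]
          exact Nat.mul_dvd_mul_right h2 _
        refine Nat.Coprime.dvd_of_dvd_mul_left ?_ h1
        rw [hk]
        exact Nat.Coprime.pow_left k
          ((Fact.out : p.Prime).coprime_iff_not_dvd.2 (Sylow.not_dvd_index P))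
      have hg : π g ∈ (P : Subgroup M).map ψ := heq ▸ ⟨⟨g, ht⟩, rfl⟩
      obtain ⟨m, hm, hmg⟩ := hg
      exact ⟨m, ⟨m, hm, rfl⟩, hmg⟩
    obtain ⟨a', ha', rfl⟩ := hcov a ha
    obtain ⟨b', hb', rfl⟩ := hcov b hb
    obtain ⟨c', hc', rfl⟩ := hcov c hc
    rw [← map_commutatorElement, ← map_commutatorElement,
      h2 hp S (P.isPGroup'.map _) a' ha' b' hb' c' hc', map_one]
  · intro x hx hxp
    obtain ⟨g, rfl⟩ := QuotientGroup.mk'_surjective O x
    obtain ⟨o, ho, hog⟩ := Constrained.exists_mul_mem_centralizer (x := g) hOp hEp fun u hu => by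
      rw [← QuotientGroup.eq_one_iff]
      have h := Subgroup.mem_centralizer_iff.1 hx (π u) ⟨u, hu, rfl⟩
      change π u * π g = π g * π u at h
      change π (g * u * g⁻¹ * u⁻¹) = 1
      rw [map_mul, map_mul, map_mul, map_inv, map_inv, ← h]
      group
    obtain ⟨k, m, hm, hn⟩ := Nat.exists_eq_pow_mul_and_not_dvd (orderOf_pos (o * g)).ne' p
      (Fact.out : p.Prime).ne_one
    set s := (o * g) ^ m with hs
    have hsp : IsPGroup p (Subgroup.zpowers s) := by
      have h1 : s ^ p ^ k = 1 := by rw [hs, ← pow_mul, mul_comm, ← hn, pow_orderOf_eq_one]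
      obtain ⟨j, -, hj⟩ := (Nat.dvd_prime_pow (Fact.out : p.Prime)).1 (orderOf_dvd_of_pow_eq_one h1)
      exact IsPGroup.of_card (n := j) (by rw [Nat.card_zpowers, hj])
    have hsE : π s ∈ E.map π := ⟨s, hfull s (pow_mem hog m) hsp, rfl⟩
    have hgs : π s = π g ^ m := by
      rw [hs, map_pow, map_mul, hπ, QuotientGroup.mk'_apply O o, (QuotientGroup.eq_one_iff o).2 ho,
        one_mul]
    obtain ⟨i, hi⟩ := IsPGroup.iff_orderOf.1 hxp ⟨π g, Subgroup.mem_zpowers _⟩
    rw [Subgroup.orderOf_mk] at hi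
    refine Coprime.mem_of_pow_mem (n := m) ?_ (hgs ▸ hsE)
    rw [hi]
    exact Nat.Coprime.pow_left i ((Fact.out : p.Prime).coprime_iff_not_dvd.2 hm)
  · exact le_trans (Subgroup.map_mono hEY) (Subgroup.le_normalizer_map π)

end Cfsg.Agent.ConstrainedTrans
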