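/-
Thompson's transitivity theorem for groups with `p`-constrained local subgroups.

* `isPConstrained_centralizer_of_local`, `le_centralizerPPrimeCore`, `maxInv_conj`
-/
import Cfsg.Agent.Lib.ConstrainedTrans.Basic
import Cfsg.Agent.Lib.Signalizer.Transitivity
import Cfsg.Agent.Lib.OddOrder.Transitivity

set_option autoImplicit false

namespace Cfsg.Agent.ConstrainedTrans

open scoped Pointwise commutatorElement

variable {G : Type*} [Group G] [Finite G] {p : ℕ} [Fact p.Prime]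

theorem centralizer_zpowers (a : G) :
    Subgroup.centralizer (Subgroup.zpowers a : Set G) = Subgroup.centralizer ({a} : Set G) := by
  rw [Subgroup.zpowers_eq_closure, Subgroup.centralizer_closure]

theorem isPConstrained_centralizer_of_local
    (hloc : ∀ T : Subgroup G, IsPGroup p T → T ≠ ⊥ →
      Cfsg.IsPConstrained p ↥(Subgroup.normalizer (T : Set G)))
    {a : G} {E : Subgroup G} (hE : IsPGroup p E) (ha : a ∈ E) (ha1 : a ≠ 1) :
    Cfsg.IsPConstrained p ↥(Subgroup.centralizer ({a} : Set G)) := by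
  set T := Subgroup.zpowers a with hT
  have hTp : IsPGroup p T := hE.to_le (Subgroup.zpowers_le.2 ha)
  set N := Subgroup.normalizer (T : Set G)
  have hTN : T ≤ N := Subgroup.le_normalizer
  have h1 := Constrained.isPConstrained_centralizer (G := N)
    (hloc T hTp (by rw [hT, Ne, Subgroup.zpowers_eq_bot]; exact ha1))
    (T := T.subgroupOf N) (hTp.comap_subtype (K := N))
  have hmap : (Subgroup.centralizer ((T.subgroupOf N : Subgroup N) : Set N)).map N.subtype =
      Subgroup.centralizer ({a} : Set G) := by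
    apply le_antisymm
    · rintro _ ⟨x, hx, rfl⟩
      exact Subgroup.mem_centralizer_singleton_iff.2 (congrArg Subtype.val
        (Subgroup.mem_centralizer_iff.1 hx ⟨a, hTN (Subgroup.mem_zpowers a)⟩
          (Subgroup.mem_zpowers a))).symm
    · intro x hx
      rw [← centralizer_zpowers] at hx
      refine ⟨⟨x, Subgroup.centralizer_le_normalizer _ hx⟩,
        Subgroup.mem_centralizer_iff.2 fun t ht => Subtype.ext ?_, rfl⟩
      exact Subgroup.mem_centralizer_iff.1 hx _ ht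
  exact Constrained.isPConstrained_congr
    (((Subgroup.centralizer ((T.subgroupOf N : Subgroup N) : Set N)).equivMapOfInjective N.subtype
      N.subtype_injective).trans (MulEquiv.subgroupCongr hmap)) h1

theorem classTwo_of_sylow (h : ∀ S : Sylow p G, Group.IsNilpotent (S : Subgroup G) ∧
    Group.nilpotencyClass (S : Subgroup G) ≤ 2) : ClassTwo p G := by
  intro T hT a ha b hb c hc
  obtain ⟨S, hS⟩ := hT.exists_le_sylow
  obtain ⟨hn, hcl⟩ := h S
  haveI := hn
  have h0 : (⊤ : Subgroup (S : Subgroup G)).lowerCentralSeries 2 = ⊥ :=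
    Subgroup.lowerCentralSeries_eq_bot_iff_nilpotencyClass_le.2 hcl
  have h1 : ⁅⁅(⟨a, hS ha⟩ : (S : Subgroup G)), (⟨b, hS hb⟩ : (S : Subgroup G))⁆, (⟨c, hS hc⟩ : (S : Subgroup G))⁆ ∈
      (⊤ : Subgroup (S : Subgroup G)).lowerCentralSeries 2 :=
    Subgroup.commutator_mem_commutator
      (Subgroup.commutator_mem_commutator (Subgroup.mem_top _) (Subgroup.mem_top _))
      (Subgroup.mem_top _)
  rw [h0, Subgroup.mem_bot] at h1
  exact congrArg Subtype.val h1

theorem classTwo_subgroup (h : ClassTwo p G) (X : Subgroup G) : ClassTwo p X := by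
  intro T hT a ha b hb c hc
  exact Subtype.ext (h (T.map X.subtype) (hT.map _) a ⟨a, ha, rfl⟩ b ⟨b, hb, rfl⟩ c ⟨c, hc, rfl⟩)

theorem le_centralizerPPrimeCore
    (hloc : ∀ T : Subgroup G, IsPGroup p T → T ≠ ⊥ →
      Cfsg.IsPConstrained p ↥(Subgroup.normalizer (T : Set G)))
    (h2 : p = 2 → ClassTwo p G) {E : Subgroup G} (hEp : IsPGroup p E) (hEc : IsMulCommutative E)
    (hfull : ∀ x ∈ Subgroup.centralizer (E : Set G), IsPGroup p (Subgroup.zpowers x) → x ∈ E)
    {a : G} (ha : a ∈ E) (ha1 : a ≠ 1) {Y : Subgroup G}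
    (hYa : Y ≤ Subgroup.centralizer ({a} : Set G)) (hY : (Nat.card Y).Coprime p)
    (hEY : E ≤ Subgroup.normalizer (Y : Set G)) : Y ≤ Cfsg.centralizerPPrimeCore p a := by
  set X := Subgroup.centralizer ({a} : Set G) with hX
  have hEX : E ≤ X := fun e he => Subgroup.mem_centralizer_singleton_iff.2
    (Signalizer.commute_of_isMulCommutative hEc he ha)
  have hEX' : IsMulCommutative (E.subgroupOf X) := inferInstance
  have h := le_pPrimeCore_of_invariant (G := X) (isPConstrained_centralizer_of_local hloc hEp ha ha1)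
    (fun hp => classTwo_subgroup (h2 hp) X) (E := E.subgroupOf X) (hEp.comap_subtype) hEX'
    (fun x hx hxp => ?_) (Y := Y.subgroupOf X) (by rwa [Cores.card_subgroupOf hYa])
    (fun e he => Coprime.mem_normalizer_of_forall fun y hy => ?_)
  · intro y hy
    exact ⟨⟨y, hYa hy⟩, h (show (⟨y, hYa hy⟩ : X) ∈ Y.subgroupOf X from hy), rfl⟩
  · refine hfull x (Subgroup.mem_centralizer_iff.2 fun e he => ?_) ?_
    · exact congrArg Subtype.val (Subgroup.mem_centralizer_iff.1 hx ⟨e, hEX he⟩ he)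
    · have h := hxp.map X.subtype
      rwa [MonoidHom.map_zpowers] at h
  · exact (Subgroup.mem_normalizer_iff.1 (hEY he) _).1 hy

open OddTrans in
/-- **Thompson transitivity.** -/
theorem maxInv_conj
    (hloc : ∀ T : Subgroup G, IsPGroup p T → T ≠ ⊥ →
      Cfsg.IsPConstrained p ↥(Subgroup.normalizer (T : Set G)))
    (h2 : p = 2 → ClassTwo p G) {E : Subgroup G} (hEp : IsPGroup p E) (hEc : IsMulCommutative E)
    (hE3 : ¬ Cfsg.PRankLE p 2 E)
    (hfull : ∀ x ∈ Subgroup.centralizer (E : Set G), IsPGroup p (Subgroup.zpowers x) → x ∈ E)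
    {q : ℕ} [Fact q.Prime] (hqp : q ≠ p) {Q₁ Q₂ : Subgroup G}
    (h₁ : Q₁ ∈ Cfsg.maxInvSubgroups ⊤ E {q}) (h₂ : Q₂ ∈ Cfsg.maxInvSubgroups ⊤ E {q}) :
    ∃ k ∈ Cfsg.piCoreOf (Cfsg.primesNotDvd p) (Subgroup.centralizer (E : Set G)),
      MulAut.conj k • Q₁ = Q₂ := by
  have hq : q.Prime := Fact.out
  -- an elementary subgroup of rank three
  obtain ⟨A, hAE, hA, hA3⟩ : ∃ A, A ≤ E ∧ Cfsg.IsElementaryAbelian p A ∧ p ^ 3 ≤ Nat.card A := by
    simp only [Cfsg.PRankLE, not_forall, not_le] at hE3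
    obtain ⟨B, hBc, hBe, hBcard⟩ := hE3
    refine ⟨B.map E.subtype, Subgroup.map_subtype_le B, ⟨Subgroup.map_isMulCommutative _ _, ?_⟩, ?_⟩
    · rintro _ ⟨b, hb, rfl⟩
      exact congrArg Subtype.val (hBe b hb)
    · rw [Cores.card_map_subtype]
      obtain ⟨k, hk⟩ := IsPGroup.iff_card.1 (hEp.to_subgroup B)
      rw [hk] at hBcard ⊢
      exact Nat.pow_le_pow_right (Fact.out : p.Prime).pos
        ((Nat.pow_lt_pow_iff_right (Fact.out : p.Prime).one_lt).1 hBcard)
  have hp' : ∀ {Q : Subgroup G}, IsPGroup q Q → (Nat.card Q).Coprime p := fun {Q} hQ => by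
    obtain ⟨k, hk⟩ := IsPGroup.iff_card.1 hQ
    rw [hk]
    exact Nat.Coprime.pow_left k ((Nat.coprime_primes hq Fact.out).2 hqp)
  have hpdvd : ∀ {Q : Subgroup G}, IsPGroup q Q → ¬ p ∣ Nat.card Q := fun {Q} hQ =>
    (Fact.out : p.Prime).coprime_iff_not_dvd.1 (hp' hQ).symm
  suffices H : ∀ D : Subgroup G, ∀ Q₁ Q₂ : Subgroup G, Q₁ ∈ Cfsg.maxInvSubgroups ⊤ E {q} →
      Q₂ ∈ Cfsg.maxInvSubgroups ⊤ E {q} → Q₁ ⊓ Q₂ = D →
      ∃ k ∈ Cfsg.piCoreOf (Cfsg.primesNotDvd p) (Subgroup.centralizer (E : Set G)),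
        MulAut.conj k • Q₁ = Q₂ from H _ Q₁ Q₂ h₁ h₂ rfl
  clear h₁ h₂ Q₁ Q₂
  intro D
  induction D using WellFoundedGT.induction with
  | ind D ih =>
  intro Q₁ Q₂ h₁ h₂ hD
  by_cases e₁ : Q₁ ⊓ Q₂ = Q₁
  · exact ⟨1, one_mem _, by rw [map_one, one_smul]; exact (h₁.2 Q₂ h₂.1 (e₁ ▸ inf_le_right)).symm⟩
  by_cases e₂ : Q₁ ⊓ Q₂ = Q₂
  · exact ⟨1, one_mem _, by rw [map_one, one_smul]; exact h₂.2 Q₁ h₁.1 (e₂ ▸ inf_le_left)⟩
  have hQ₁ : IsPGroup q Q₁ := isPGroup_of_pi hq h₁.1.2.1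
  have hQ₂ : IsPGroup q Q₂ := isPGroup_of_pi hq h₂.1.2.1
  obtain ⟨a, ha, ha1, hn₁, hn₂⟩ := Signalizer.exists_moving_element hA hA3 hQ₁ hQ₂ (hpdvd hQ₁)
    (hpdvd hQ₂) (hAE.trans h₁.1.2.2) (hAE.trans h₂.1.2.2) e₁ e₂
  subst hD
  set D := Q₁ ⊓ Q₂ with hDdef
  have hED : E ≤ Subgroup.normalizer (D : Set G) :=
    Signalizer.le_normalizer_inf h₁.1.2.2 h₂.1.2.2
  have hECa : E ≤ Subgroup.normalizer (Subgroup.centralizer ({a} : Set G) : Set G) := by
    refine le_trans (fun e he => ?_) Subgroup.le_normalizer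
    exact Subgroup.mem_centralizer_singleton_iff.2
      (Signalizer.commute_of_isMulCommutative hEc he (hAE ha))
  set H := Cfsg.centralizerPPrimeCore p a ⊓ Subgroup.normalizer (D : Set G) with hH
  have hEH : E ≤ Subgroup.normalizer (H : Set G) := by
    refine Signalizer.le_normalizer_inf ?_ (hED.trans Subgroup.le_normalizer)
    refine le_trans (fun e he => ?_) (Cores.normalizer_le_normalizer_map (H :=
      Subgroup.centralizer ({a} : Set G)) (hC := Cores.pPrimeCore_characteristic p _) _)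
    exact hECa he
  have hHle : ¬ p ∣ Nat.card (Cfsg.centralizerPPrimeCore p a) := by
    rw [Cfsg.centralizerPPrimeCore, Cores.card_map_subtype]
    exact Cores.not_dvd_card_pPrimeCore
  have hHp : ¬ p ∣ Nat.card H := Signalizer.not_dvd_card_of_le inf_le_left hHle
  have key : ∀ Q : Subgroup G, IsPGroup q Q → E ≤ Subgroup.normalizer (Q : Set G) →
      ∃ S, Signalizer.IsSylowIn q H S ∧ E ≤ Subgroup.normalizer (S : Set G) ∧
        Subgroup.normalizer (D : Set G) ⊓ Q ⊓ Subgroup.centralizer {a} ≤ S := by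
    intro Q hQ hEQ
    have hR : IsPGroup q ↥(Subgroup.normalizer (D : Set G) ⊓ Q ⊓ Subgroup.centralizer {a}) :=
      hQ.to_le (inf_le_left.trans inf_le_right)
    have hER : E ≤ Subgroup.normalizer
        ((Subgroup.normalizer (D : Set G) ⊓ Q ⊓ Subgroup.centralizer {a} : Subgroup G) : Set G) :=
      Signalizer.le_normalizer_inf (Signalizer.le_normalizer_inf
        (hED.trans Subgroup.le_normalizer) hEQ) hECa
    exact Signalizer.exists_invariant_sylow_ge hEp hHp hEH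
      (le_inf (le_centralizerPPrimeCore hloc h2 hEp hEc hfull (hAE ha) ha1 inf_le_right (hp' hR) hER)
        (inf_le_left.trans inf_le_left)) hR hER
  obtain ⟨S₁, hS₁, hES₁, hR₁⟩ := key Q₁ hQ₁ h₁.1.2.2
  obtain ⟨S₂, hS₂, hES₂, hR₂⟩ := key Q₂ hQ₂ h₂.1.2.2
  obtain ⟨c, hcH, hcE, hc⟩ := Signalizer.exists_conj_invariant_sylow hEp hHp hEH hS₁ hS₂ hES₁ hES₂
  set K := Cfsg.piCoreOf (Cfsg.primesNotDvd p) (Subgroup.centralizer (E : Set G)) with hK
  have hcK : c ∈ K := by
    have hCX : Subgroup.centralizer (E : Set G) ≤ Subgroup.centralizer ({a} : Set G) :=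
      Signalizer.centralizer_le_singleton (hAE ha)
    refine le_piCoreOf (N := Cfsg.centralizerPPrimeCore p a ⊓ Subgroup.centralizer (E : Set G))
      inf_le_right ?_ ?_ ⟨hcH.1, hcE⟩
    · refine Signalizer.le_normalizer_inf ?_ Subgroup.le_normalizer
      refine hCX.trans (Subgroup.le_normalizer.trans ?_)
      exact Cores.normalizer_le_normalizer_map (hC := Cores.pPrimeCore_characteristic p _) _
    · intro r hr hd
      refine ⟨hr, fun hrp => ?_⟩
      rw [(Nat.prime_dvd_prime_iff_eq hr Fact.out).1 hrp] at hd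
      exact hHle (hd.trans (Subgroup.card_dvd_of_le inf_le_left))
  have hS₁N : S₁ ≤ Subgroup.normalizer (D : Set G) := hS₁.1.trans inf_le_right
  obtain ⟨U₁, hU₁, hU₁le⟩ := exists_max_ge (B := E) (q := q) (U := D ⊔ S₁)
    (pi_of_isPGroup (IsPGroup.to_sup_of_normal_left' (hQ₁.to_le inf_le_left) hS₁.2.1 hS₁N))
    (Signalizer.le_normalizer_sup hED hES₁)
  have hcC : c ∈ Subgroup.centralizer (E : Set G) := hcE
  set U₂ := MulAut.conj c • U₁ with hU₂def
  have hU₂ : U₂ ∈ Cfsg.maxInvSubgroups ⊤ E {q} :=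
    conj_mem_max (Subgroup.centralizer_le_normalizer _ hcC) hU₁
  have hlt₁ : D < Q₁ ⊓ U₁ := by
    refine lt_of_le_not_ge (le_inf inf_le_left (le_sup_left.trans hU₁le)) fun h => hn₁ ?_
    exact le_trans (le_inf (inf_le_left.trans inf_le_right)
      (hR₁.trans (le_sup_right.trans hU₁le))) h
  have hlt₂ : D < U₂ ⊓ Q₂ := by
    refine lt_of_le_not_ge (le_inf ?_ inf_le_right) fun h => hn₂ ?_
    · intro x hx
      rw [hU₂def, Coprime.mem_conj]
      exact hU₁le (Subgroup.mem_sup_left ((Subgroup.mem_normalizer_iff''.1 hcH.2 x).1 hx))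
    · refine le_trans (le_inf (hR₂.trans ?_) (inf_le_left.trans inf_le_right)) h
      rw [hU₂def, ← hc]
      exact Subgroup.map_mono (le_sup_right.trans hU₁le)
  obtain ⟨c₁, hc₁, hc₁'⟩ := ih _ hlt₁ Q₁ U₁ h₁ hU₁ rfl
  obtain ⟨c₃, hc₃, hc₃'⟩ := ih _ hlt₂ U₂ Q₂ hU₂ h₂ rfl
  refine ⟨c₃ * (c * c₁), mul_mem hc₃ (mul_mem hcK hc₁), ?_⟩
  rw [map_mul, mul_smul, map_mul, mul_smul, hc₁', ← hU₂def, hc₃']

end Cfsg.Agent.ConstrainedTrans
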